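import Cfsg.Agent.Lib.SzTori.Count

/-!
In a Suzuki group two conjugate involutions generate an element of any prime order dividing `q ^ 2 + 1`.
-/

set_option autoImplicit false
set_option linter.unusedSectionVars false
set_option linter.style.haveILetI false

namespace Cfsg.Agent.Lib.LAEven65.SuzukiConj

open Cfsg.Agent.Lib.LieTwisted.Suzuki Cfsg.Agent.Lib.SzElements.Basic Cfsg.Agent.Lib.SzTori

variable {F : Type*} [Field F] [Fintype F] {m : ℕ} (h : IsSzField F m) (hm : 1 ≤ m)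
include h hm

theorem exists_conj_center {t : Cfsg.Sz F m} (ht : orderOf t = 2) :
    ∃ k, t = k * uS h 0 1 * k⁻¹ := by
  haveI : Fact (Nat.Prime 2) := ⟨Nat.prime_two⟩
  have hp : IsPGroup 2 ↥(Subgroup.zpowers t) :=
    IsPGroup.of_card (n := 1) (by rw [Nat.card_zpowers, ht, pow_one])
  obtain ⟨P, hP⟩ := hp.exists_le_sylow
  obtain ⟨g, hg⟩ := h.conj_sylow hm P
  obtain ⟨_, ⟨a, b, rfl⟩, hv⟩ : t ∈ (unip h).map (MulAut.conj g).toMonoidHom :=
    hg ▸ hP (Subgroup.mem_zpowers t)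
  have hv' : g * uS h a b * g⁻¹ = t := hv
  subst hv'
  have hord : orderOf (uS h a b) = 2 := by
    rw [← ht]; exact ((MulAut.conj g).orderOf_eq (uS h a b)).symm
  obtain rfl := eq_zero_of_sq h (by rw [← hord, pow_orderOf_eq_one])
  have hb : b ≠ 0 := fun hb => by
    rw [hb, h.uS_zero, orderOf_one] at hord; omega
  obtain ⟨e, he⟩ := scalar_surjective h hb
  refine ⟨g * (uS h 0 0 * dS h e), ?_⟩
  calc g * uS h 0 b * g⁻¹ = g * (uS h 0 0 * dS h e * uS h 0 1 * (uS h 0 0 * dS h e)⁻¹) * g⁻¹ := by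
        rw [conj_center, mul_one, he]
    _ = _ := by group

theorem exists_pair {s : Cfsg.Sz F m} (hs : orderOf s = 2) {r : ℕ} [hr : Fact r.Prime]
    (hrd : r ∣ Fintype.card F ^ 2 + 1) :
    ∃ g y : Cfsg.Sz F m, y ∈ Subgroup.closure ({s, g * s * g⁻¹} : Set (Cfsg.Sz F m)) ∧ orderOf y = r := by
  haveI : Fact (Nat.Prime 2) := ⟨Nat.prime_two⟩
  obtain ⟨u, hu⟩ := exists_prime_orderOf_dvd_card' r (G := Cfsg.Sz F m)
    (by rw [h.card_group hm]; exact Dvd.dvd.mul_right (Dvd.dvd.mul_left hrd _) _)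
  have hu1 : u ≠ 1 := fun e => by rw [e, orderOf_one] at hu; exact hr.out.one_lt.ne hu
  have huE : InE u := ⟨hu1, orderOf_dvd_iff_pow_eq_one.mp (hu ▸ hrd)⟩
  obtain ⟨-, -, -, -, -, -, -, hN⟩ := two_classes h hm
  have hodd : ¬ 2 ∣ Nat.card (cen u) := fun hd => by
    have h1 := hd.trans (torus_card_dvd h hm huE)
    obtain ⟨-, k, hk⟩ := card_facts h hm
    rw [hk] at h1
    have : 2 ∣ (k + k) ^ 2 := dvd_pow ⟨k, (two_mul k).symm⟩ two_ne_zero
    omega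
  obtain ⟨⟨t, htN⟩, ht⟩ := exists_prime_orderOf_dvd_card' 2
    (G := ↥(Subgroup.normalizer (cen u : Set (Cfsg.Sz F m)))) (by rw [hN u huE]; exact Dvd.dvd.mul_right (by norm_num) _)
  rw [← Subgroup.orderOf_coe] at ht
  have htC : t ∉ cen u := fun hc => hodd (ht ▸ Subgroup.orderOf_dvd_natCard _ hc)
  have huC : u ∈ cen u := mem_centralizer_iff'.2 rfl
  have htu : t * u * t⁻¹ ∈ cen u := (Subgroup.mem_normalizer_iff.mp htN u).mp huC
  have htt : t * t = 1 := by rw [← sq, ← ht, pow_orderOf_eq_one]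
  have hti : t⁻¹ = t := inv_eq_of_mul_eq_one_right htt
  have hinv : t * u * t⁻¹ = u⁻¹ := by
    by_contra hne
    have hw : u * (t * u * t⁻¹) ∈ cen u := mul_mem huC htu
    have hw1 : u * (t * u * t⁻¹) ≠ 1 := fun e => hne (eq_inv_of_mul_eq_one_right e)
    refine htC ((torus_eq h hm huE hw hw1).le (mem_centralizer_iff'.2 ?_))
    have hcomm : u * (t * u * t⁻¹) = t * u * t⁻¹ * u := comm_of_cyclic (torus_cyclic h hm huE) huC htu
    calc u * (t * u * t⁻¹) * t = u * t * u := by group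
      _ = (t * t) * (u * t * u) := by rw [htt, one_mul]
      _ = t * (t * u * t⁻¹ * u) := by rw [hti]; group
      _ = t * (u * (t * u * t⁻¹)) := by rw [hcomm]
  have hv : orderOf (t * u) = 2 := by
    refine orderOf_eq_prime ?_ fun e => htC ?_
    · rw [sq]
      calc t * u * (t * u) = t * u * t⁻¹ * u := by rw [hti]; group
        _ = 1 := by rw [hinv, inv_mul_cancel]
    · rw [eq_inv_of_mul_eq_one_left e]; exact inv_mem huC
  obtain ⟨k₁, h1⟩ := exists_conj_center h hm ht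
  obtain ⟨k₂, h2⟩ := exists_conj_center h hm hv
  obtain ⟨k, rfl⟩ := exists_conj_center h hm hs
  set z := uS h 0 1
  refine ⟨k * k₁⁻¹ * (k₂ * k⁻¹), k * k₁⁻¹ * u * (k * k₁⁻¹)⁻¹, ?_, ?_⟩
  · have he : k * k₁⁻¹ * u * (k * k₁⁻¹)⁻¹ = k * z * k⁻¹ *
        (k * k₁⁻¹ * (k₂ * k⁻¹) * (k * z * k⁻¹) * (k * k₁⁻¹ * (k₂ * k⁻¹))⁻¹) := by
      calc k * k₁⁻¹ * u * (k * k₁⁻¹)⁻¹ = k * k₁⁻¹ * (t * (t * u)) * (k * k₁⁻¹)⁻¹ := by
            rw [← mul_assoc t t u, htt, one_mul]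
        _ = k * k₁⁻¹ * (k₁ * z * k₁⁻¹ * (k₂ * z * k₂⁻¹)) * (k * k₁⁻¹)⁻¹ := by rw [← h2, ← h1]
        _ = _ := by group
    rw [he]
    exact mul_mem (Subgroup.subset_closure (Or.inl rfl)) (Subgroup.subset_closure (Or.inr rfl))
  · rw [← hu]; exact (MulAut.conj (k * k₁⁻¹)).orderOf_eq u

end Cfsg.Agent.Lib.LAEven65.SuzukiConj
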