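import Cfsg.Prelude.Def_PLocal
import Cfsg.Agent.Lib.PGroups.Omega
import Mathlib.GroupTheory.GroupAction.Quotient
import Mathlib.Data.Nat.Totient

/-!
Bounds for faithful modules: two conjugates generating an element of order a primitive prime power divisor.
-/

set_option autoImplicit false
set_option linter.style.haveILetI false

open Cfsg

namespace Cfsg.Agent.Lib.LAEven65.RankOneModule

/-- An element of order `r ^ (e + 1)` acts freely outside the fixed points of its part of order `r`. -/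
theorem modEq_card_free {G : Type*} [Group G] [Finite G] {r : ℕ} [hr : Fact r.Prime] (W : Subgroup G) {u : G}
    (hu : ∀ w ∈ W, u * w * u⁻¹ ∈ W) {e : ℕ} (ho : orderOf u = r ^ (e + 1)) :
    Nat.card ↥W ≡ Nat.card ↥(W ⊓ Subgroup.centralizer ({u ^ r ^ e} : Set G)) [MOD r ^ (e + 1)] := by
  classical
  set D := W ⊓ Subgroup.centralizer ({u ^ r ^ e} : Set G) with hD
  let Γ := ↥(Subgroup.zpowers u)
  have hpow : ∀ k : ℕ, ∀ w ∈ W, u ^ k * w * (u ^ k)⁻¹ ∈ W := by
    intro k
    induction k with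
    | zero => simp
    | succ k ih =>
      intro w hw
      have := hu _ (ih w hw)
      rwa [show u * (u ^ k * w * (u ^ k)⁻¹) * u⁻¹ = u ^ (k + 1) * w * (u ^ (k + 1))⁻¹ by rw [pow_succ']; group] at this
  have hW : ∀ g : Γ, ∀ w ∈ W, (g : G) * w * (g : G)⁻¹ ∈ W := by
    intro g w hw
    obtain ⟨k, hk⟩ := (isOfFinOrder_of_finite u).mem_powers_iff_mem_zpowers.mpr g.2
    rw [← hk]; exact hpow k w hw
  have hcomm : ∀ g : Γ, Commute (g : G) (u ^ r ^ e) := by
    intro g
    obtain ⟨k, hk⟩ := g.2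
    rw [← hk]
    exact ((Commute.refl u).zpow_left k).pow_right _
  let X := {w : G // w ∈ W ∧ w ∉ D}
  have hX : ∀ (g : Γ) (w : X), (g : G) * w.1 * (g : G)⁻¹ ∈ W ∧ (g : G) * w.1 * (g : G)⁻¹ ∉ D := by
    intro g w
    refine ⟨hW g _ w.2.1, fun hd => w.2.2 ⟨w.2.1, Subgroup.mem_centralizer_singleton_iff.mpr ?_⟩⟩
    have h1 : Commute ((g : G) * w.1 * (g : G)⁻¹) (u ^ r ^ e) := Subgroup.mem_centralizer_singleton_iff.mp hd.2
    have h2 := ((hcomm g).inv_left.mul_left h1).mul_left (hcomm g)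
    have e1 : (g : G)⁻¹ * ((g : G) * w.1 * (g : G)⁻¹) * (g : G) = w.1 := by group
    rw [e1] at h2
    exact h2.eq
  letI : MulAction Γ X :=
    { smul := fun g w => ⟨(g : G) * w.1 * (g : G)⁻¹, hX g w⟩
      one_smul := fun w => Subtype.ext (by
        show ((1 : Γ) : G) * w.1 * ((1 : Γ) : G)⁻¹ = w.1
        simp)
      mul_smul := fun g g' w => Subtype.ext (by
        show ((g * g' : Γ) : G) * w.1 * ((g * g' : Γ) : G)⁻¹ = (g : G) * ((g' : G) * w.1 * (g' : G)⁻¹) * (g : G)⁻¹
        rw [show ((g * g' : Γ) : G) = (g : G) * (g' : G) from rfl]; group) }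
  have hfree : ∀ w : X, MulAction.stabilizer Γ w = ⊥ := by
    intro w
    rw [eq_bot_iff]
    intro g hg
    by_contra hne
    refine w.2.2 ⟨w.2.1, Subgroup.mem_centralizer_singleton_iff.mpr ?_⟩
    have h1 : Commute (g : G) w.1 := mul_inv_eq_iff_eq_mul.mp (congrArg Subtype.val hg)
    obtain ⟨k, hk⟩ := (isOfFinOrder_of_finite u).mem_powers_iff_mem_zpowers.mpr g.2
    obtain ⟨j, hj, hjk⟩ := (Nat.dvd_prime_pow hr.out).mp (Nat.gcd_dvd_left (r ^ (e + 1)) k)
    have hje : j ≤ e := by
      by_contra hlt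
      have : j = e + 1 := by omega
      refine hne (Subgroup.mem_bot.mpr (Subtype.ext ?_))
      rw [← hk]
      refine orderOf_dvd_iff_pow_eq_one.mp ?_
      rw [ho, ← this, ← hjk]; exact Nat.gcd_dvd_right _ _
    have h2 : Commute (u ^ Nat.gcd (orderOf u) k) w.1 := by
      rw [Nat.gcd_comm, ← zpow_natCast, Nat.gcd_eq_gcd_ab k (orderOf u), zpow_add, zpow_mul, zpow_mul, zpow_natCast,
        zpow_natCast, pow_orderOf_eq_one, one_zpow, mul_one]
      have h3 : Commute (u ^ k) w.1 := by rw [show u ^ k = (g : G) from hk]; exact h1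
      exact h3.zpow_left _
    rw [ho, hjk] at h2
    have h4 := h2.pow_left (r ^ (e - j))
    rw [← pow_mul, ← pow_add, Nat.add_sub_cancel' hje] at h4
    exact h4.eq.symm
  have hdvd : r ^ (e + 1) ∣ Nat.card X := by
    haveI : Fintype (Quotient (MulAction.orbitRel Γ X)) := Fintype.ofFinite _
    rw [Nat.card_congr (MulAction.selfEquivSigmaOrbitsQuotientStabilizer Γ X), Nat.card_sigma]
    refine Finset.dvd_sum fun ω _ => ?_
    rw [hfree, ← Subgroup.index_eq_card, Subgroup.index_bot, Nat.card_zpowers, ho]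
  have hsum : Nat.card ↥W = Nat.card ↥D + Nat.card X := by
    rw [← Nat.card_sum]
    refine Nat.card_congr
      { toFun := fun w => if h : (w : G) ∈ D then Sum.inl ⟨w, h⟩ else Sum.inr ⟨w, w.2, h⟩
        invFun := Sum.elim (fun d => ⟨d, d.2.1⟩) (fun x => ⟨x.1, x.2.1⟩)
        left_inv := fun w => by by_cases h : (w : G) ∈ D <;> simp [h]
        right_inv := ?_ }
    rintro (d | x)
    · simp [d.2]
    · simp [x.2.2]
  rw [hsum]
  calc Nat.card ↥D + Nat.card X ≡ Nat.card ↥D + 0 [MOD r ^ (e + 1)] :=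
        Nat.ModEq.add_left _ (Nat.modEq_zero_iff_dvd.mpr hdvd)
    _ = Nat.card ↥D := add_zero _

variable {G : Type*} [Group G] [Finite G] {p : ℕ} [hp : Fact p.Prime] {Q : Type*} [Group Q]

/-- If two conjugates of `s` generate, modulo the kernel, an element of order `r ^ (e + 1)` and `m` is the order of
`p` modulo that number, the fixed points of `s` have index at least `p ^ (m / 2)`. -/
theorem bound {V H : Subgroup G} (hV : IsElementaryAbelian p V) (hHV : H ≤ Subgroup.normalizer (V : Set G))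
    (hf : H ⊓ Subgroup.centralizer (V : Set G) = ⊥) (π : ↥H →* Q) {r : ℕ} [hr : Fact r.Prime] (hrp : r ≠ p) {e m : ℕ}
    (hord : ∀ k : ℕ, p ^ k ≡ 1 [MOD r ^ (e + 1)] → m ∣ k) {s : ↥H}
    (hy : ∃ g y : ↥H, y ∈ Subgroup.closure ({s, g * s * g⁻¹} : Set ↥H) ∧ orderOf (π y) = r ^ (e + 1)) :
    p ^ m ≤ (V ⊓ Subgroup.centralizer ({(s : G)} : Set G)).relIndex V ^ 2 ∧ p ^ m ≤ Nat.card ↥V := by
  obtain ⟨g, y, hy, hyo⟩ := hy
  set C := V ⊓ Subgroup.centralizer ({(s : G)} : Set G) with hC
  set s' : G := ((g * s * g⁻¹ : ↥H) : G) with hs'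
  set C' := V ⊓ Subgroup.centralizer ({s'} : Set G) with hC'
  -- a power of `y` of order `r ^ (e + 1)`
  have hd := orderOf_map_dvd π y
  rw [hyo] at hd
  obtain ⟨k, hk⟩ : ∃ k : ℕ, orderOf (y ^ k) = r ^ (e + 1) := by
    obtain ⟨c, hc⟩ := hd
    refine ⟨c, ?_⟩
    rw [orderOf_pow_of_dvd ?_ ⟨r ^ (e + 1), by rw [hc]; ring⟩, hc, Nat.mul_div_cancel]
    all_goals
      rcases Nat.eq_zero_or_pos c with rfl | hc0
      · rw [mul_zero] at hc; exact absurd hc (orderOf_pos y).ne'
      · omega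
  set u : G := ((y ^ k : ↥H) : G) with hu
  have huo : orderOf u = r ^ (e + 1) := by rw [hu, Subgroup.orderOf_coe, hk]
  have hnorm : ∀ (h : G), h ∈ H → ∀ w ∈ V, h * w * h⁻¹ ∈ V := fun h hh w hw =>
    (Subgroup.mem_normalizer_iff.mp (hHV hh) w).mp hw
  have hmod := modEq_card_free V (hnorm u (y ^ k).2) huo
  set D := V ⊓ Subgroup.centralizer ({u ^ r ^ e} : Set G) with hD
  have hVp : IsPGroup p ↥V := Cfsg.Agent.Lib.PGroups.elemAb_isPGroup hV
  obtain ⟨a, ha⟩ := IsPGroup.iff_card.mp hVp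
  obtain ⟨j, hj⟩ := IsPGroup.iff_card.mp (hVp.to_le (inf_le_left : D ≤ V))
  have hne : D ≠ V := by
    intro e1
    have h1 : u ^ r ^ e ∈ H ⊓ Subgroup.centralizer (V : Set G) := by
      refine ⟨H.pow_mem (y ^ k).2 _, Subgroup.mem_centralizer_iff.mpr fun v hv => ?_⟩
      have h2 : v ∈ D := e1.symm ▸ hv
      exact Subgroup.mem_centralizer_singleton_iff.mp h2.2
    rw [hf, Subgroup.mem_bot] at h1
    have := Nat.le_of_dvd (pow_pos hr.out.pos e) (huo ▸ orderOf_dvd_of_pow_eq_one h1)
    rw [pow_succ] at this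
    have := Nat.le_mul_of_pos_left r (pow_pos hr.out.pos e)
    nlinarith [hr.out.two_le, pow_pos hr.out.pos e]
  have hja : j < a := by
    by_contra hge
    exact hne (Subgroup.eq_of_le_of_card_ge inf_le_left
      (by rw [ha, hj]; exact Nat.pow_le_pow_right hp.out.pos (not_lt.mp hge)))
  have hcop : Nat.Coprime (r ^ (e + 1)) (p ^ j) :=
    ((Nat.coprime_primes hr.out hp.out).mpr hrp).pow _ _
  have hm : m ∣ a - j := hord _ (by
    have h1 : p ^ j * p ^ (a - j) ≡ p ^ j * 1 [MOD r ^ (e + 1)] := by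
      rw [← pow_add, Nat.add_sub_cancel' hja.le, mul_one, ← ha, ← hj]; exact hmod
    exact Nat.ModEq.cancel_left_of_coprime hcop h1)
  have hDidx : p ^ m ≤ D.relIndex V := by
    have h1 := (D.subgroupOf V).card_mul_index
    rw [Nat.card_congr (Subgroup.subgroupOfEquivOfLe (inf_le_left : D ≤ V)).toEquiv, hj, ha] at h1
    have h2 : D.relIndex V = p ^ (a - j) := by
      refine Nat.eq_of_mul_eq_mul_left (pow_pos hp.out.pos j) ?_
      rw [← pow_add, Nat.add_sub_cancel' hja.le]; exact h1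
    rw [h2]
    exact Nat.pow_le_pow_right hp.out.pos (Nat.le_of_dvd (by omega) hm)
  have hle : C ⊓ C' ≤ D := by
    intro w hw
    refine ⟨hw.1.1, Subgroup.mem_centralizer_singleton_iff.mpr ?_⟩
    have hcl : Subgroup.closure ({s, g * s * g⁻¹} : Set ↥H) ≤ (Subgroup.centralizer ({w} : Set G)).comap H.subtype := by
      refine (Subgroup.closure_le _).mpr ?_
      rintro x (rfl | rfl)
      · exact Subgroup.mem_centralizer_singleton_iff.mpr (Subgroup.mem_centralizer_singleton_iff.mp hw.1.2).symm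
      · exact Subgroup.mem_centralizer_singleton_iff.mpr (Subgroup.mem_centralizer_singleton_iff.mp hw.2.2).symm
    have h1 := Subgroup.pow_mem _ (Subgroup.pow_mem _ (hcl hy) k) (r ^ e)
    have h2 : u ^ r ^ e * w = w * u ^ r ^ e := by
      have := Subgroup.mem_centralizer_singleton_iff.mp (Subgroup.mem_comap.mp h1)
      simpa [hu] using this
    exact h2.symm
  have hC'eq : C'.relIndex V = C.relIndex V := by
    have hgV : V.map (MulAut.conj (g : G)).toMonoidHom = V := by
      refine Subgroup.eq_of_le_of_card_ge ?_ (Subgroup.card_map_of_injective (MulAut.conj (g : G)).injective).ge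
      rintro _ ⟨w, hw, rfl⟩; exact hnorm _ g.2 w hw
    have hmap : C.map (MulAut.conj (g : G)).toMonoidHom = C' := by
      have hkey : ∀ x : G, Commute ((g : G) * x * (g : G)⁻¹) s' ↔ Commute x (s : G) := fun x => by
        have e1 : s' = MulAut.conj (g : G) (s : G) := by simp [hs']
        have e2 : (g : G) * x * (g : G)⁻¹ = MulAut.conj (g : G) x := by simp
        rw [e1, e2]
        exact ⟨fun h => (MulAut.conj (g : G)).injective (by simpa only [map_mul] using h.eq),
          fun h => Commute.map h (MulAut.conj (g : G))⟩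
      rw [hC, Subgroup.map_inf _ _ _ (MulAut.conj (g : G)).injective, hgV, hC']
      congr 1
      ext z
      constructor
      · rintro ⟨x, hx, rfl⟩
        exact Subgroup.mem_centralizer_singleton_iff.mpr
          ((hkey x).mpr (Subgroup.mem_centralizer_singleton_iff.mp hx)).eq
      · intro hz
        refine ⟨(g : G)⁻¹ * z * g, Subgroup.mem_centralizer_singleton_iff.mpr ?_, by simp [mul_assoc]⟩
        refine ((hkey _).mp ?_).eq
        have e3 : (g : G) * ((g : G)⁻¹ * z * g) * (g : G)⁻¹ = z := by group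
        rw [e3]
        exact Subgroup.mem_centralizer_singleton_iff.mp hz
    have h1 : (C.map (MulAut.conj (g : G)).toMonoidHom).relIndex (V.map (MulAut.conj (g : G)).toMonoidHom) =
        C.relIndex V := Subgroup.relIndex_map_map_of_injective _ _ (MulAut.conj (g : G)).injective
    rwa [hmap, hgV] at h1
  refine ⟨?_, ?_⟩
  · calc p ^ m ≤ D.relIndex V := hDidx
      _ ≤ (C ⊓ C').relIndex V :=
          Nat.le_of_dvd (Nat.pos_of_ne_zero (Subgroup.index_ne_zero_of_finite)) (Subgroup.relIndex_dvd_of_le_left _ hle)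
      _ ≤ C.relIndex V * C'.relIndex V := Subgroup.relIndex_inf_le
      _ = _ := by rw [hC'eq, sq]
  · exact hDidx.trans (Nat.le_of_dvd Nat.card_pos ((D.subgroupOf V).index_dvd_card))

end Cfsg.Agent.Lib.LAEven65.RankOneModule
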