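import Mathlib

/-!
`PSL₂` over a finite field: two conjugates of an element of order `p` generate an element of any prescribed
semisimple order of odd type.
-/

set_option autoImplicit false
set_option linter.style.haveILetI false

namespace Cfsg.Agent.Lib.LAEven65.PSLConj

open Matrix

variable {F : Type*} [Field F]

local notation "SL" => Matrix.SpecialLinearGroup (Fin 2) F
local notation "M2" => Matrix (Fin 2) (Fin 2) F

/-- The projection to `PSL₂`. -/
def proj : SL →* Matrix.ProjectiveSpecialLinearGroup (Fin 2) F :=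
  QuotientGroup.mk' (Subgroup.center (Matrix.SpecialLinearGroup (Fin 2) F))

theorem proj_surjective : Function.Surjective (proj (F := F)) := QuotientGroup.mk'_surjective _

theorem proj_eq_one_iff (M : SL) : proj M = 1 ↔ M ∈ Subgroup.center SL := QuotientGroup.eq_one_iff _

/-- The upper unitriangular element. -/
def upM (x : F) : SL := ⟨!![1, x; 0, 1], by simp [Matrix.det_fin_two_of]⟩

theorem central_iff (M : SL) : M ∈ Subgroup.center SL ↔ ∃ c : F, (M : M2) = c • 1 := by
  constructor
  · intro h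
    obtain ⟨r, -, hr⟩ := Matrix.SpecialLinearGroup.mem_center_iff.mp h
    exact ⟨r, by rw [← hr, Matrix.scalar_apply, Matrix.smul_one_eq_diagonal]⟩
  · rintro ⟨c, hc⟩
    refine Matrix.SpecialLinearGroup.mem_center_iff.mpr ⟨c, ?_, ?_⟩
    · have := M.2
      rw [hc] at this
      simpa using this
    · rw [hc, Matrix.scalar_apply, Matrix.smul_one_eq_diagonal]

theorem sq_eq (A : M2) : A * A = A.trace • A - A.det • 1 := by
  ext i j
  fin_cases i <;> fin_cases j <;>
    simp [Matrix.mul_apply, Fin.sum_univ_two, Matrix.trace_fin_two, Matrix.det_fin_two] <;> ring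

/-- The coefficients of the powers of an element of trace `t` of `SL₂`. -/
def coef (t : F) : ℕ → F × F
  | 0 => (0, 1)
  | k + 1 => ((coef t k).1 * t + (coef t k).2, -(coef t k).1)

theorem pow_form (M : SL) (k : ℕ) :
    ((M ^ k : SL) : M2) = (coef (M : M2).trace k).1 • (M : M2) + (coef (M : M2).trace k).2 • 1 := by
  induction k with
  | zero => simp [coef]
  | succ k ih =>
    rw [pow_succ, Matrix.SpecialLinearGroup.coe_mul, ih, add_mul, smul_mul_assoc, smul_mul_assoc, one_mul, sq_eq,
      M.2]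
    simp only [coef]
    module

theorem pow_central_iff {M : SL} (hM : M ∉ Subgroup.center SL) (k : ℕ) :
    M ^ k ∈ Subgroup.center SL ↔ (coef (M : M2).trace k).1 = 0 := by
  rw [central_iff, pow_form]
  constructor
  · rintro ⟨c, hc⟩
    by_contra h0
    refine hM ((central_iff M).mpr ⟨(coef (M : M2).trace k).1⁻¹ * (c - (coef (M : M2).trace k).2), ?_⟩)
    rw [mul_smul, sub_smul, ← hc, add_sub_cancel_right, smul_smul, inv_mul_cancel₀ h0, one_smul]
  · intro h0
    exact ⟨(coef (M : M2).trace k).2, by rw [h0, zero_smul, zero_add]⟩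

/-- The order in `PSL₂` of a noncentral element depends only on its trace. -/
theorem orderOf_eq_of_trace {M N : SL} (hM : M ∉ Subgroup.center SL) (hN : N ∉ Subgroup.center SL)
    (h : (M : M2).trace = (N : M2).trace) : orderOf (proj M) = orderOf (proj N) := by
  refine orderOf_eq_orderOf_iff.mpr fun k => ?_
  rw [← map_pow, ← map_pow, proj_eq_one_iff, proj_eq_one_iff, pow_central_iff hM, pow_central_iff hN, h]

theorem orderOf_eq_iff_coef {M : SL} (hM : M ∉ Subgroup.center SL) (k : ℕ) :
    proj M ^ k = 1 ↔ (coef (M : M2).trace k).1 = 0 := by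
  rw [← map_pow, proj_eq_one_iff, pow_central_iff hM]

/-- An element of order `p` of `PSL₂` in characteristic `p` is the image of a conjugate of a transvection. -/
theorem exists_conj_up {p : ℕ} [hp : Fact p.Prime] [CharP F p] {x : Matrix.ProjectiveSpecialLinearGroup (Fin 2) F}
    (hx : orderOf x = p) : ∃ (g : SL) (b : F), b ≠ 0 ∧ x = proj (g * upM b * g⁻¹) := by
  obtain ⟨M, rfl⟩ := proj_surjective x
  have hM : M ∉ Subgroup.center SL := fun h => by
    rw [(proj_eq_one_iff M).mpr h, orderOf_one] at hx; exact hp.out.one_lt.ne hx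
  have hMp : M ^ p ∈ Subgroup.center SL := by
    rw [← proj_eq_one_iff, map_pow, ← hx, pow_orderOf_eq_one]
  obtain ⟨c, hc2, hc⟩ := Matrix.SpecialLinearGroup.mem_center_iff.mp hMp
  rw [Fintype.card_fin] at hc2
  have hcp : c ^ p = c := by
    rcases hp.out.eq_two_or_odd' with rfl | ⟨i, rfl⟩
    · have h1 : (c - 1) ^ 2 = 0 := by
        rw [sub_pow_char (p := 2), hc2, one_pow, sub_self]
      have := pow_eq_zero_iff (two_ne_zero) |>.mp h1
      rw [sub_eq_zero.mp this, one_pow]
    · rw [pow_succ, pow_mul, hc2, one_pow, one_mul]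
  set A : M2 := (M : M2) - c • 1 with hA
  have hAp : A ^ p = 0 := by
    rw [hA, sub_pow_char_of_commute _ ((Commute.one_right (M : M2)).smul_right c), smul_pow, one_pow, hcp,
      ← Matrix.SpecialLinearGroup.coe_pow, ← hc, Matrix.scalar_apply, ← Matrix.smul_one_eq_diagonal, sub_self]
  have hA0 : A ≠ 0 := fun h => hM ((central_iff M).mpr ⟨c, sub_eq_zero.mp h⟩)
  have hdet : A.det = 0 := by
    have := congrArg Matrix.det hAp
    rw [Matrix.det_pow, Matrix.det_zero, pow_eq_zero_iff hp.out.ne_zero] at this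
    exact this
  have htr : A.trace = 0 := by
    have hpow : ∀ k : ℕ, A ^ (k + 1) = A.trace ^ k • A := by
      intro k
      induction k with
      | zero => simp
      | succ k ih =>
        rw [pow_succ, ih, smul_mul_assoc, sq_eq, hdet, zero_smul, sub_zero, smul_smul, pow_succ]
    have h1 := hpow (p - 1)
    rw [Nat.sub_add_cancel hp.out.pos, hAp] at h1
    rcases smul_eq_zero.mp h1.symm with h2 | h2
    · exact eq_zero_of_pow_eq_zero h2
    · exact absurd h2 hA0
  rw [Matrix.trace_fin_two] at htr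
  rw [Matrix.det_fin_two] at hdet
  have hδ : A 1 1 = -A 0 0 := eq_neg_of_add_eq_zero_right htr
  rw [hδ] at hdet
  -- the conjugating element and the transvection
  have key : ∃ (g : SL) (b : F), b ≠ 0 ∧ A * (g : M2) = (g : M2) * !![0, b; 0, 0] := by
    by_cases hγ : A 1 0 = 0
    · have hα : A 0 0 = 0 := by
        rw [hγ, mul_zero, sub_zero, mul_neg, neg_eq_zero, mul_self_eq_zero] at hdet; exact hdet
      have hb : A 0 1 ≠ 0 := fun h => hA0 (by
        ext i j; fin_cases i <;> fin_cases j <;> simp [h, hγ, hα, hδ])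
      refine ⟨1, A 0 1, hb, ?_⟩
      rw [Matrix.SpecialLinearGroup.coe_one, mul_one, one_mul]
      ext i j; fin_cases i <;> fin_cases j <;> simp [hγ, hα, hδ]
    · refine ⟨⟨!![A 0 0, -(A 1 0)⁻¹; A 1 0, 0], by simp [Matrix.det_fin_two_of, hγ]⟩, -(A 1 0)⁻¹, by simpa using hγ, ?_⟩
      ext i j
      fin_cases i <;> fin_cases j <;> simp [Matrix.mul_apply, Fin.sum_univ_two, hδ] <;>
        first | linear_combination (-1 : F) * hdet | (field_simp; done) | (field_simp; ring_nf) | ring
  obtain ⟨g, b, hb, hg⟩ := key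
  have hc1 : c * c = 1 := by rw [← sq]; exact hc2
  refine ⟨g, c * b, mul_ne_zero (fun h => by rw [h, zero_mul] at hc1; exact zero_ne_one hc1) hb, ?_⟩
  refine QuotientGroup.eq.mpr ((central_iff _).mpr ⟨c, ?_⟩)
  have h1 : ((g * upM (c * b) * g⁻¹ : SL) : M2) = c • (M : M2) := by
    have h2 : ((upM (c * b) : SL) : M2) = 1 + c • !![0, b; 0, 0] := by
      ext i j; fin_cases i <;> fin_cases j <;> simp [upM]
    rw [Matrix.SpecialLinearGroup.coe_mul, Matrix.SpecialLinearGroup.coe_mul, h2, mul_add, mul_one, mul_smul_comm,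
      ← hg, add_mul, smul_mul_assoc, mul_assoc, ← Matrix.SpecialLinearGroup.coe_mul, mul_inv_cancel,
      Matrix.SpecialLinearGroup.coe_one, mul_one, hA, smul_sub, smul_smul, hc1, one_smul, add_sub_cancel]
  rw [Matrix.SpecialLinearGroup.coe_mul, h1, mul_smul_comm, ← Matrix.SpecialLinearGroup.coe_mul, inv_mul_cancel,
    Matrix.SpecialLinearGroup.coe_one]

/-- Two conjugates of a transvection have a product of trace `2 - e ^ 2`. -/
theorem exists_product {b : F} (hb : b ≠ 0) {e : F} (he : e ≠ 0) :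
    ∃ g : SL, ((upM b * (g * upM b * g⁻¹) : SL) : M2).trace = 2 - e ^ 2 ∧
      upM b * (g * upM b * g⁻¹) ∉ Subgroup.center SL := by
  set d := e / b with hd
  have hd0 : d ≠ 0 := div_ne_zero he hb
  let g : SL := ⟨!![0, -d⁻¹; d, 0], by simp [Matrix.det_fin_two_of, hd0]⟩
  let l : SL := ⟨!![1, 0; -(d ^ 2 * b), 1], by simp [Matrix.det_fin_two_of]⟩
  have hgl : g * upM b * g⁻¹ = l := by
    rw [mul_inv_eq_iff_eq_mul]
    apply Subtype.ext
    simp only [Matrix.SpecialLinearGroup.coe_mul]
    ext i j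
    fin_cases i <;> fin_cases j <;> simp [g, l, upM, Matrix.mul_apply, Fin.sum_univ_two]
    field_simp
  refine ⟨g, ?_, fun h => ?_⟩
  · rw [hgl, Matrix.SpecialLinearGroup.coe_mul]
    simp [l, upM, Matrix.mul_apply, Fin.sum_univ_two, Matrix.trace_fin_two]
    rw [hd]; field_simp; ring
  · rw [hgl] at h
    obtain ⟨c, hc⟩ := (central_iff _).mp h
    have := congrFun (congrFun hc 0) 1
    rw [Matrix.SpecialLinearGroup.coe_mul] at this
    simp [l, upM, Matrix.mul_apply, Fin.sum_univ_two] at this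
    exact hb this

/-- From a noncentral element of trace `2 - e ^ 2`: two conjugates of an element of order `p` give its order. -/
theorem exists_pair {p : ℕ} [Fact p.Prime] [CharP F p] {x : Matrix.ProjectiveSpecialLinearGroup (Fin 2) F}
    (hx : orderOf x = p) {M : SL} (hM : M ∉ Subgroup.center SL) {e : F} (he : e ≠ 0)
    (ht : (M : M2).trace = 2 - e ^ 2) :
    ∃ g y : Matrix.ProjectiveSpecialLinearGroup (Fin 2) F,
      y ∈ Subgroup.closure ({x, g * x * g⁻¹} : Set _) ∧ orderOf y = orderOf (proj M) := by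
  obtain ⟨h, b, hb, rfl⟩ := exists_conj_up hx
  obtain ⟨g, hg, hgc⟩ := exists_product hb he
  have hyd : orderOf (proj (upM b * (g * upM b * g⁻¹))) = orderOf (proj M) :=
    orderOf_eq_of_trace hgc hM (hg.trans ht.symm)
  refine ⟨proj (h * g * h⁻¹), proj (h * upM b * h⁻¹) * (proj (h * g * h⁻¹) * proj (h * upM b * h⁻¹) * (proj (h * g * h⁻¹))⁻¹),
    Subgroup.mul_mem _ (Subgroup.subset_closure (Or.inl rfl)) (Subgroup.subset_closure (Or.inr rfl)), ?_⟩
  rw [← hyd, ← map_inv, ← map_mul, ← map_mul, ← map_mul,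
    show h * upM b * h⁻¹ * (h * g * h⁻¹ * (h * upM b * h⁻¹) * (h * g * h⁻¹)⁻¹) =
      h * (upM b * (g * upM b * g⁻¹)) * h⁻¹ by group, map_mul proj (h * (upM b * (g * upM b * g⁻¹))), map_mul, map_inv]
  exact (MulAut.conj (proj h)).orderOf_eq (proj (upM b * (g * upM b * g⁻¹)))

/-- An element of odd order greater than one provides the trace. -/
theorem exists_trace {N : ℕ} (hN : Odd N) (hN1 : 1 < N) {y : Matrix.ProjectiveSpecialLinearGroup (Fin 2) F}
    (hy : orderOf y = N) :
    ∃ (M : SL) (e : F), M ∉ Subgroup.center SL ∧ e ≠ 0 ∧ (M : M2).trace = 2 - e ^ 2 ∧ orderOf (proj M) = N := by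
  obtain ⟨X, rfl⟩ := proj_surjective y
  have hX : X ∉ Subgroup.center SL := fun h => by
    rw [(proj_eq_one_iff X).mpr h, orderOf_one] at hy; omega
  have ho : orderOf (proj (X ^ 2)) = N := by
    rw [map_pow, Nat.Coprime.orderOf_pow (by rw [hy]; exact hN.coprime_two_right), hy]
  have hX2 : X ^ 2 ∉ Subgroup.center SL := fun h => by
    rw [(proj_eq_one_iff _).mpr h, orderOf_one] at ho; omega
  set t := (X : M2).trace with ht
  have ht0 : t ≠ 0 := fun h0 => hX2 ((pow_central_iff hX 2).mpr (by simp [coef, ← ht, h0]))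
  let M : SL := ⟨-((X ^ 2 : SL) : M2), by rw [Matrix.det_neg, (X ^ 2).2]; simp⟩
  have hMeq : proj M = proj (X ^ 2) := QuotientGroup.eq.mpr ((central_iff _).mpr ⟨-1, by
    have h1 : ((M⁻¹ : SL) : M2) * (M : M2) = 1 := by
      rw [← Matrix.SpecialLinearGroup.coe_mul, inv_mul_cancel, Matrix.SpecialLinearGroup.coe_one]
    rw [Matrix.SpecialLinearGroup.coe_mul,
      show ((X ^ 2 : SL) : M2) = -(M : M2) from (neg_neg _).symm, mul_neg, h1, neg_one_smul]⟩)
  refine ⟨M, t, fun h => ?_, ht0, ?_, hMeq ▸ ho⟩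
  · rw [← proj_eq_one_iff, hMeq] at h
    rw [h, orderOf_one] at ho; omega
  · show (-((X ^ 2 : SL) : M2)).trace = _
    rw [pow_form]
    simp only [coef, ← ht, Matrix.trace_neg, Matrix.trace_add, Matrix.trace_smul, Matrix.trace_one, Fintype.card_fin,
      smul_eq_mul]
    push_cast
    ring

/-- For the field of eight elements there is such an element of order nine. -/
theorem exists_trace_eight [Fintype F] [CharP F 2] (hF : Fintype.card F = 8) :
    ∃ (M : SL) (e : F), M ∉ Subgroup.center SL ∧ e ≠ 0 ∧ (M : M2).trace = 2 - e ^ 2 ∧ orderOf (proj M) = 9 := by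
  classical
  obtain ⟨c, hc0, hc1⟩ : ∃ c : F, c ≠ 0 ∧ c ≠ 1 := by
    by_contra hcon
    push Not at hcon
    have : Fintype.card F ≤ ({0, 1} : Finset F).card :=
      Finset.card_le_card (s := Finset.univ) fun c _ => by
        rcases eq_or_ne c 0 with h | h
        · simp [h]
        · simp [hcon c h]
    rw [hF] at this
    have := Finset.card_le_two (a := (0 : F)) (b := 1)
    omega
  have h7 : c ^ 7 = 1 := by
    have := FiniteField.pow_card_sub_one_eq_one c hc0
    rwa [hF] at this
  have h2 : (2 : F) = 0 := CharTwo.two_eq_zero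
  obtain ⟨T, hT⟩ : ∃ T : F, T ^ 3 + T + 1 = 0 := by
    have h : (c + 1) * ((c ^ 3 + c + 1) * (c ^ 3 + c ^ 2 + 1)) = 0 := by
      have e1 : (c + 1) * ((c ^ 3 + c + 1) * (c ^ 3 + c ^ 2 + 1)) =
          c ^ 7 + 1 + 2 * (c ^ 6 + c ^ 5 + 2 * c ^ 4 + 2 * c ^ 3 + c ^ 2 + c) := by ring
      rw [e1, h7, h2, zero_mul, add_zero, one_add_one_eq_two, h2]
    rcases mul_eq_zero.mp h with h' | h'
    · exact absurd (by linear_combination h' - h2) hc1
    rcases mul_eq_zero.mp h' with h'' | h''
    · exact ⟨c, h''⟩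
    · refine ⟨c⁻¹, ?_⟩
      field_simp
      linear_combination h''
  have hT0 : T ≠ 0 := fun h => by simp [h] at hT
  obtain ⟨e, he⟩ : IsSquare T := FiniteField.isSquare_of_char_two (ringChar.eq F 2) T
  have he0 : e ≠ 0 := fun h => hT0 (by rw [he, h, mul_zero])
  let M : SL := ⟨!![T, 1; 1, 0], by rw [Matrix.det_fin_two_of]; linear_combination -h2⟩
  have hM : M ∉ Subgroup.center SL := fun h => by
    obtain ⟨a, ha⟩ := (central_iff M).mp h
    have := congrFun (congrFun ha 0) 1
    simp [M] at this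
  have htr : (M : M2).trace = T := by simp [M, Matrix.trace_fin_two]
  refine ⟨M, e, hM, he0, by rw [htr, he, ← sq]; linear_combination (e ^ 2 - 1) * h2, ?_⟩
  haveI : Fact (Nat.Prime 3) := ⟨Nat.prime_three⟩
  refine orderOf_eq_prime_pow (p := 3) (n := 1) ?_ ?_
  · rw [orderOf_eq_iff_coef hM, htr]
    simp only [coef, pow_one]
    intro h
    exact one_ne_zero (α := F) (by linear_combination hT - T * h - T * h2)
  · rw [orderOf_eq_iff_coef hM, htr]
    show (coef T 9).1 = 0
    simp only [coef]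
    linear_combination (T ^ 5 - 8 * T ^ 3 - T ^ 2 + 23 * T + 9) * hT + (-4 - 16 * T - 16 * T ^ 2) * h2

end Cfsg.Agent.Lib.LAEven65.PSLConj
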