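import Cfsg.Agent.Lib.LAEven65.RankOneModule
import Cfsg.Agent.Lib.LAEven65.PSLConj
import Cfsg.Agent.Lib.Linear.Order
import Cfsg.Agent.Lib.NumberTheory.Zsigmondy
import Cfsg.Agent.Lib.Cores.Basic

/-!
Faithful modules in characteristic `p` of groups with a quotient `PSL₂(p^n)`.
-/

set_option autoImplicit false
set_option linter.style.haveILetI false

open Cfsg

namespace Cfsg.Agent.Lib.LAEven65.RankOneL2

open Cfsg.Agent.Lib.LAEven65.RankOneModule Cfsg.Agent.Lib.LAEven65.PSLConj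

theorem six_dvd_of_modEq {k : ℕ} (h : 2 ^ k ≡ 1 [MOD 9]) : 6 ∣ k := by
  have h6 : (2 ^ 6) ^ (k / 6) ≡ 1 [MOD 9] := by
    have := Nat.ModEq.pow (k / 6) (show 2 ^ 6 ≡ 1 [MOD 9] by decide)
    rwa [one_pow] at this
  have h2 : 2 ^ (k % 6) ≡ 1 [MOD 9] := by
    have h3 : (2 ^ 6) ^ (k / 6) * 2 ^ (k % 6) ≡ 1 * 2 ^ (k % 6) [MOD 9] := h6.mul_right _
    rw [← pow_mul, ← pow_add, Nat.div_add_mod, one_mul] at h3
    exact h3.symm.trans h
  have hlt : k % 6 < 6 := Nat.mod_lt _ (by norm_num)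
  refine Nat.dvd_of_mod_eq_zero ?_
  unfold Nat.ModEq at h2
  interval_cases k % 6 <;> simp_all

theorem zmod_two_orderOf (x : ZMod 2) {k : ℕ} (hk : k ≠ 0) (h : x ^ k = 1) : orderOf x = 1 := by
  have hx : x = 0 ∨ x = 1 := (show ∀ z : ZMod 2, z = 0 ∨ z = 1 by decide) x
  rcases hx with rfl | rfl
  · rw [zero_pow hk] at h; exact absurd h zero_ne_one
  · exact orderOf_one

variable {G : Type*} [Group G] [Finite G] {p : ℕ} [hp : Fact p.Prime]

/-- In a faithful module every nontrivial `p`-element moving `PSL₂(p^n)` has fixed points of index at least `p^n`. -/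
theorem rankOne_bound {V H : Subgroup G} (hV : IsElementaryAbelian p V) (hHV : H ≤ Subgroup.normalizer (V : Set G))
    (hf : H ⊓ Subgroup.centralizer (V : Set G) = ⊥) {F : Type*} [Field F] [Fintype F] {n : ℕ} (hn : 2 ≤ n)
    (hF : Fintype.card F = p ^ n) (π : ↥H →* Matrix.ProjectiveSpecialLinearGroup (Fin 2) F)
    (hπ : Function.Surjective π) {s : ↥H} (hs : π s ≠ 1) (hsp : IsPGroup p ↥(Subgroup.zpowers s)) :
    p ^ n ≤ (V ⊓ Subgroup.centralizer ({(s : G)} : Set G)).relIndex V ∧ (p ^ n) ^ 2 ≤ Nat.card ↥V := by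
  haveI : CharP F p := charP_of_card_eq_prime_pow (f := n) (by rw [hF])
  -- a power whose image has order `p`
  obtain ⟨m, hm⟩ := hsp ⟨s, Subgroup.mem_zpowers s⟩
  have hm' : (π s) ^ p ^ m = 1 := by
    rw [← map_pow, show s ^ p ^ m = 1 from congrArg Subtype.val hm, map_one]
  obtain ⟨k, -, hk⟩ := (Nat.dvd_prime_pow hp.out).mp (orderOf_dvd_of_pow_eq_one hm')
  rcases k with _ | k
  · rw [pow_zero, orderOf_eq_one_iff] at hk; exact absurd hk hs
  set s' : ↥H := s ^ p ^ k with hs'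
  have hs'o : orderOf (π s') = p := by
    rw [hs', map_pow, orderOf_pow_of_dvd (pow_ne_zero _ hp.out.ne_zero) (hk ▸ pow_dvd_pow p (Nat.le_succ k)), hk,
      pow_succ, Nat.mul_div_cancel_left _ (pow_pos hp.out.pos k)]
  have hle : V ⊓ Subgroup.centralizer ({(s : G)} : Set G) ≤ V ⊓ Subgroup.centralizer ({(s' : G)} : Set G) := by
    refine le_inf inf_le_left (inf_le_right.trans fun w hw => ?_)
    have h1 : Commute w (s : G) := Subgroup.mem_centralizer_singleton_iff.mp hw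
    refine Subgroup.mem_centralizer_singleton_iff.mpr ?_
    rw [hs', Subgroup.coe_pow]
    exact (h1.pow_right _).eq
  -- the prime power
  obtain ⟨r, e, hr, hrp, hord, M, c, hM, hc, htr, hMo⟩ : ∃ (r e : ℕ), r.Prime ∧ r ≠ p ∧
      (∀ j : ℕ, p ^ j ≡ 1 [MOD r ^ (e + 1)] → 2 * n ∣ j) ∧
      ∃ (M : Matrix.SpecialLinearGroup (Fin 2) F) (c : F),
        M ∉ Subgroup.center (Matrix.SpecialLinearGroup (Fin 2) F) ∧ c ≠ 0 ∧
        (M : Matrix (Fin 2) (Fin 2) F).trace = 2 - c ^ 2 ∧ orderOf (proj M) = r ^ (e + 1) := by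
    by_cases h86 : p = 2 ∧ n = 3
    · obtain ⟨rfl, rfl⟩ := h86
      obtain ⟨M, c, h1, h2, h3, h4⟩ := exists_trace_eight (F := F) (by rw [hF]; rfl)
      exact ⟨3, 1, Nat.prime_three, by norm_num, fun j hj => six_dvd_of_modEq hj, M, c, h1, h2, h3, by rw [h4]; norm_num⟩
    obtain ⟨r, hr, hro⟩ := Cfsg.Agent.Lib.NumberTheory.exists_primitive_prime (q := p) (n := 2 * n)
      hp.out.two_le (by omega) (fun h => h86 ⟨h.1, by omega⟩) (fun h => by omega)
    haveI : Fact r.Prime := ⟨hr⟩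
    have h2n : (p : ZMod r) ^ (2 * n) = 1 := hro ▸ pow_orderOf_eq_one _
    have hrp : r ≠ p := by
      rintro rfl
      rw [ZMod.natCast_self, zero_pow (by omega)] at h2n
      exact zero_ne_one h2n
    have hr2 : r ≠ 2 := by
      rintro rfl
      have := zmod_two_orderOf _ (by omega) h2n
      omega
    have hrdvd : r ∣ p ^ n + 1 := by
      have h1 : ((p : ZMod r) ^ n - 1) * ((p : ZMod r) ^ n + 1) = 0 := by
        have : ((p : ZMod r) ^ n - 1) * ((p : ZMod r) ^ n + 1) = (p : ZMod r) ^ (2 * n) - 1 := by ring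
        rw [this, h2n, sub_self]
      rcases mul_eq_zero.mp h1 with e1 | e1
      · have := Nat.le_of_dvd (by omega) (hro ▸ orderOf_dvd_of_pow_eq_one (sub_eq_zero.mp e1))
        omega
      · rw [← ZMod.natCast_eq_zero_iff]; push_cast; exact e1
    obtain ⟨y, hy⟩ : ∃ y : Matrix.ProjectiveSpecialLinearGroup (Fin 2) F, orderOf y = r := by
      refine exists_prime_orderOf_dvd_card' r ?_
      have h := Cfsg.Agent.Lib.Linear.gcd_mul_card_PSL_two (F := F)
      rw [hF] at h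
      have h' : r ∣ Nat.gcd 2 (p ^ n - 1) * Nat.card (Matrix.ProjectiveSpecialLinearGroup (Fin 2) F) :=
        h ▸ hrdvd.mul_left _
      rcases hr.dvd_mul.mp h' with h1 | h1
      · exact absurd ((Nat.prime_dvd_prime_iff_eq hr Nat.prime_two).mp (h1.trans (Nat.gcd_dvd_left _ _))) hr2
      · exact h1
    obtain ⟨M, c, h1, h2, h3, h4⟩ := exists_trace (hr.odd_of_ne_two hr2) hr.one_lt hy
    refine ⟨r, 0, hr, hrp, fun j hj => ?_, M, c, h1, h2, h3, by rw [h4]; simp⟩
    rw [zero_add, pow_one] at hj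
    have h5 := (ZMod.natCast_eq_natCast_iff _ _ _).mpr hj
    push_cast at h5
    exact hro ▸ orderOf_dvd_of_pow_eq_one h5
  haveI : Fact r.Prime := ⟨hr⟩
  obtain ⟨g, y, hy, hyo⟩ := exists_pair hs'o hM hc htr
  obtain ⟨g', rfl⟩ := hπ g
  obtain ⟨y', hy', rfl⟩ : y ∈ (Subgroup.closure ({s', g' * s' * g'⁻¹} : Set ↥H)).map π := by
    rwa [MonoidHom.map_closure, Set.image_pair, map_mul, map_mul, map_inv]
  obtain ⟨h1, h2⟩ := bound hV hHV hf π hrp (e := e) (m := 2 * n) hord (s := s') ⟨g', y', hy', by rw [hyo, hMo]⟩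
  rw [mul_comm 2 n, pow_mul] at h1 h2
  refine ⟨(Nat.pow_le_pow_iff_left two_ne_zero).mp (h1.trans ?_), h2⟩
  refine Nat.pow_le_pow_left (Nat.le_of_dvd (Nat.pos_of_ne_zero Subgroup.index_ne_zero_of_finite) ?_) 2
  exact Subgroup.relIndex_dvd_of_le_left _ hle

/-- The consequences for the Sylow subgroup of such a group. -/
theorem sylow_bounds {V H : Subgroup G} (hV : IsElementaryAbelian p V) (hHV : H ≤ Subgroup.normalizer (V : Set G))
    (hf : H ⊓ Subgroup.centralizer (V : Set G) = ⊥) {F : Type*} [Field F] [Fintype F] {n : ℕ}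
    (hF : Fintype.card F = p ^ n)
    (e : ↥H ⧸ Cfsg.pPrimeCore p ↥H ≃* Matrix.ProjectiveSpecialLinearGroup (Fin 2) F) (S : Sylow p ↥H)
    {T : Subgroup G} (hT : T = (S : Subgroup ↥H).map H.subtype) {A : Subgroup G}
    (hA : A ≤ T ⊓ Subgroup.centralizer (T : Set G)) (hAp : Nat.card A = p ^ 2) :
    (p ^ n) ^ 2 ≤ Nat.card ↥V ∧ p ^ n ≤ (V ⊓ Subgroup.centralizer (A : Set G)).relIndex V ∧
      ∀ s ∈ T, s ≠ 1 → (p ^ n) ^ 2 ≤ ((V ⊓ Subgroup.centralizer ({s} : Set G)).relIndex V) ^ 3 := by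
  set π := e.toMonoidHom.comp (QuotientGroup.mk' (Cfsg.pPrimeCore p ↥H)) with hπ
  have hsurj : Function.Surjective π := e.surjective.comp (QuotientGroup.mk'_surjective _)
  have hinj : ∀ t ∈ (S : Subgroup ↥H), π t = 1 → t = 1 := by
    intro t ht h1
    have h2 : t ∈ Cfsg.pPrimeCore p ↥H := by
      rw [← QuotientGroup.eq_one_iff]
      exact e.injective (h1.trans (map_one e).symm)
    obtain ⟨k, hk⟩ := S.2 ⟨t, ht⟩
    obtain ⟨j, -, hj⟩ := (Nat.dvd_prime_pow hp.out).mp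
      (orderOf_dvd_of_pow_eq_one (show t ^ p ^ k = 1 from congrArg Subtype.val hk))
    have hd : orderOf t ∣ Nat.card ↥(Cfsg.pPrimeCore p ↥H) := Subgroup.orderOf_dvd_natCard _ h2
    rcases j with _ | j
    · rwa [pow_zero, orderOf_eq_one_iff] at hj
    · exfalso
      have hcop := Cfsg.Agent.Lib.Cores.pPrimeCore_coprime p (G := ↥H)
      rw [hj, pow_succ] at hd
      exact (hp.out.coprime_iff_not_dvd.mp hcop.symm) ((dvd_mul_left p _).trans hd)
  have hn : 2 ≤ n := by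
    have h1 : Nat.card ↥(S : Subgroup ↥H) ≤ p ^ n := by
      have h2 := ((S : Subgroup ↥H).map π).card_subgroup_dvd_card
      have hinj' : Function.Injective (π.comp (S : Subgroup ↥H).subtype) := by
        rw [injective_iff_map_eq_one]
        exact fun t ht => Subtype.ext (hinj t t.2 ht)
      have h3 : Nat.card ↥((S : Subgroup ↥H).map π) = Nat.card ↥(S : Subgroup ↥H) := by
        rw [← Nat.card_congr (MonoidHom.ofInjective hinj').toEquiv.symm, MonoidHom.range_comp, Subgroup.range_subtype]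
      rw [h3] at h2
      obtain ⟨j, hj⟩ := IsPGroup.iff_card.mp S.2
      rw [hj] at h2 ⊢
      have h4 := h2.trans (Dvd.intro_left _ (Cfsg.Agent.Lib.Linear.gcd_mul_card_PSL_two (F := F)))
      rw [hF, mul_assoc] at h4
      have hcop : Nat.Coprime (p ^ j) ((p ^ n - 1) * (p ^ n + 1)) := by
        rcases Nat.eq_zero_or_pos n with rfl | hn0
        · exact absurd (hF.trans (pow_zero p)) Fintype.one_lt_card.ne'
        refine Nat.Coprime.pow_left _ ((Nat.Prime.coprime_iff_not_dvd hp.out).mpr fun hd => ?_)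
        have hpn : p ∣ p ^ n := dvd_pow_self p hn0.ne'
        rcases hp.out.dvd_mul.mp hd with h5 | h5
        · have := Nat.dvd_sub hpn h5
          rw [Nat.sub_sub_self (Nat.one_le_pow _ _ hp.out.pos)] at this
          exact hp.out.ne_one (Nat.dvd_one.mp this)
        · exact hp.out.ne_one (Nat.dvd_one.mp ((Nat.dvd_add_right hpn).mp h5))
      exact Nat.le_of_dvd (pow_pos hp.out.pos n) (hcop.dvd_of_dvd_mul_right h4)
    have h2 : p ^ 2 ≤ Nat.card ↥(S : Subgroup ↥H) := by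
      rw [← hAp, ← Subgroup.card_map_of_injective H.subtype_injective (K := (S : Subgroup ↥H)), ← hT]
      exact Subgroup.card_le_of_le (hA.trans inf_le_left)
    exact (Nat.pow_le_pow_iff_right hp.out.one_lt).mp (h2.trans h1)
  have key : ∀ s ∈ T, s ≠ 1 →
      p ^ n ≤ (V ⊓ Subgroup.centralizer ({s} : Set G)).relIndex V ∧ (p ^ n) ^ 2 ≤ Nat.card ↥V := by
    intro s hs h1
    rw [hT] at hs
    obtain ⟨t, ht, rfl⟩ := hs
    refine rankOne_bound hV hHV hf hn hF π hsurj (s := t) (fun he => h1 ?_)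
      (S.2.to_le (Subgroup.zpowers_le.mpr ht))
    rw [hinj t ht he, map_one]
  obtain ⟨a, ha, ha1⟩ : ∃ a ∈ A, a ≠ (1 : G) := by
    by_contra hcon
    push Not at hcon
    rw [(Subgroup.eq_bot_iff_forall A).mpr hcon, Subgroup.card_bot] at hAp
    exact absurd hAp (Nat.one_lt_pow two_ne_zero hp.out.one_lt).ne
  obtain ⟨h1, h2⟩ := key a (hA ha).1 ha1
  refine ⟨h2, h1.trans ?_, fun s hs hs1 => ?_⟩
  · refine Nat.le_of_dvd (Nat.pos_of_ne_zero Subgroup.index_ne_zero_of_finite)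
      (Subgroup.relIndex_dvd_of_le_left _ (inf_le_inf_left _ ?_))
    exact Subgroup.centralizer_le (Set.singleton_subset_iff.mpr ha)
  · calc (p ^ n) ^ 2 ≤ ((V ⊓ Subgroup.centralizer ({s} : Set G)).relIndex V) ^ 2 :=
          Nat.pow_le_pow_left (key s hs hs1).1 2
      _ ≤ _ := Nat.pow_le_pow_right (Nat.pos_of_ne_zero Subgroup.index_ne_zero_of_finite) (by norm_num)

end Cfsg.Agent.Lib.LAEven65.RankOneL2
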